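import Cfsg.Agent.Lib.Char.RealChar
import Cfsg.Agent.Lib.Char.CliffordCorr
import Cfsg.Agent.Lib.Char.Linear
import Cfsg.Agent.Lib.Char.Degree
import Mathlib.Tactic

/-!
# Real characters and normal subgroups

* `isConj_of_map_isConj_of_real`: if every real irreducible character of `G` is trivial on the kernel
  of a surjection `π : G → Q` and real elements of `Q` lift to real elements of `G`, then `π` is
  injective on the real classes.
* `exists_real_lift_of_odd`: real elements lift modulo a normal subgroup of odd order.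
* `exists_real_of_not_centralizes`: a `2`-element not centralizing a normal subgroup `N` gives a
  nontrivial element of `N` inverted by a power of it.
* `exists_conj_fixed`: a character of degree prime to `p` over `θ` has a conjugate of `θ` fixed by any
  given `p`-subgroup.
* `eq_one_of_fixed_abelian`: a linear character of an abelian normal `p'`-subgroup fixed by a
  `p`-group `Q` with `C_N(Q) = 1` is trivial.
-/

set_option autoImplicit false
set_option linter.style.haveILetI false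

namespace Cfsg.Agent.Lib.RealDeg.Basic

open Cfsg Module
open Cfsg.Agent.Lib.Char.Basic Cfsg.Agent.Lib.Char.Ortho Cfsg.Agent.Lib.Char.Complete
open Cfsg.Agent.Lib.Char.Clifford Cfsg.Agent.Lib.Char.CliffordCorr Cfsg.Agent.Lib.Char.Conj
open Cfsg.Agent.Lib.Char.RealChar Cfsg.Agent.Lib.Char.Linear Cfsg.Agent.Lib.Char.Degree
open scoped ComplexConjugate

section Lift

variable {G Q : Type*} [Group G] [Group Q]

theorem isConj_inv_of_isConj {a b : G} (h : IsConj a b) (hb : IsConj b b⁻¹) : IsConj a a⁻¹ := by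
  have h2 : IsConj a⁻¹ b⁻¹ := by
    obtain ⟨c, hc⟩ := isConj_iff.mp h
    exact isConj_iff.mpr ⟨c, by rw [← hc]; group⟩
  exact h.trans (hb.trans h2.symm)

/-- The main counting lemma: `π` is injective on real classes. -/
theorem isConj_of_map_isConj_of_real [Finite G] [Finite Q] (π : G →* Q)
    (hπ : Function.Surjective π)
    (hker : ∀ χ : IrrCharacter G, (∀ g, ((χ : G → ℂ) g).im = 0) →
      ∀ k ∈ π.ker, (χ : G → ℂ) k = (χ : G → ℂ) 1)
    (hlift : ∀ q : Q, IsConj q q⁻¹ → ∃ g : G, IsConj g g⁻¹ ∧ π g = q)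
    {a b : G} (ha : IsConj a a⁻¹) (hb : IsConj b b⁻¹) (hab : IsConj (π a) (π b)) : IsConj a b := by
  classical
  have : Finite (ConjClasses G) := Finite.of_surjective ConjClasses.mk ConjClasses.mk_surjective
  have : Finite (ConjClasses Q) := Finite.of_surjective ConjClasses.mk ConjClasses.mk_surjective
  have := finite_irrCharacter (G := G)
  have := finite_irrCharacter (G := Q)
  -- the character count
  let Φ : {χ : IrrCharacter Q // ∀ g : Q, ((χ : Q → ℂ) g).im = 0} →
      {χ : IrrCharacter G // ∀ g : G, ((χ : G → ℂ) g).im = 0} := fun φ =>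
    ⟨⟨(φ.1 : Q → ℂ) ∘ π, Cfsg.Agent.Lib.Char.Linear.isIrrCharacter_comp π hπ φ.1.2⟩, fun g => φ.2 (π g)⟩
  have hΦ : Function.Bijective Φ := by
    constructor
    · intro x y h
      apply Subtype.ext
      apply Subtype.ext
      funext q
      obtain ⟨g, rfl⟩ := hπ q
      exact congrFun (congrArg (fun z => ((z.1 : IrrCharacter G) : G → ℂ)) h) g
    · rintro ⟨χ, hχ⟩
      obtain ⟨φ, hφ, he⟩ := isIrrCharacter_descend π hπ χ.2 (hker χ hχ)
      refine ⟨⟨⟨φ, hφ⟩, fun q => ?_⟩, ?_⟩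
      · obtain ⟨g, rfl⟩ := hπ q
        have := hχ g
        rw [show ((χ : IrrCharacter G) : G → ℂ) g = φ (π g) from congrFun he g] at this
        exact this
      · apply Subtype.ext
        apply Subtype.ext
        exact he.symm
  have hcard : Nat.card {C : ConjClasses G // ∀ g : G, ConjClasses.mk g = C → IsConj g g⁻¹} =
      Nat.card {C : ConjClasses Q // ∀ g : Q, ConjClasses.mk g = C → IsConj g g⁻¹} := by
    rw [← card_real_irr_eq_card_real_classes, ← card_real_irr_eq_card_real_classes]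
    exact (Nat.card_congr (Equiv.ofBijective Φ hΦ)).symm
  -- the map on classes
  have hmaps : ∀ C : {C : ConjClasses G // ∀ g : G, ConjClasses.mk g = C → IsConj g g⁻¹},
      ∀ q : Q, ConjClasses.mk q = ConjClasses.map π C.1 → IsConj q q⁻¹ := by
    rintro ⟨C, hC⟩ q hq
    obtain ⟨g, rfl⟩ := ConjClasses.mk_surjective C
    have h1 : ConjClasses.map π (ConjClasses.mk g) = ConjClasses.mk (π g) := rfl
    rw [h1, ConjClasses.mk_eq_mk_iff_isConj] at hq
    have h2 : IsConj (π g) (π g)⁻¹ := by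
      have := π.map_isConj (hC g rfl)
      rwa [map_inv] at this
    exact isConj_inv_of_isConj hq h2
  let Ψ : {C : ConjClasses G // ∀ g : G, ConjClasses.mk g = C → IsConj g g⁻¹} →
      {C : ConjClasses Q // ∀ g : Q, ConjClasses.mk g = C → IsConj g g⁻¹} := fun C =>
    ⟨ConjClasses.map π C.1, hmaps C⟩
  have hΨ : Function.Surjective Ψ := by
    rintro ⟨D, hD⟩
    obtain ⟨q, rfl⟩ := ConjClasses.mk_surjective D
    obtain ⟨g, hg, rfl⟩ := hlift q (hD q rfl)
    refine ⟨⟨ConjClasses.mk g, fun g' hg' => ?_⟩, rfl⟩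
    exact isConj_inv_of_isConj (ConjClasses.mk_eq_mk_iff_isConj.mp hg') hg
  have hΨi : Function.Injective Ψ := by
    have hbij := (Nat.bijective_iff_surjective_and_card Ψ).mpr ⟨hΨ, hcard⟩
    exact hbij.1
  let Ca : {C : ConjClasses G // ∀ g : G, ConjClasses.mk g = C → IsConj g g⁻¹} :=
    ⟨ConjClasses.mk a, fun g hg => isConj_inv_of_isConj (ConjClasses.mk_eq_mk_iff_isConj.mp hg) ha⟩
  let Cb : {C : ConjClasses G // ∀ g : G, ConjClasses.mk g = C → IsConj g g⁻¹} :=
    ⟨ConjClasses.mk b, fun g hg => isConj_inv_of_isConj (ConjClasses.mk_eq_mk_iff_isConj.mp hg) hb⟩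
  have h1 : Ψ Ca = Ψ Cb := Subtype.ext (ConjClasses.mk_eq_mk_iff_isConj.mpr hab)
  have h2 : Ca = Cb := hΨi h1
  exact ConjClasses.mk_eq_mk_iff_isConj.mp (congrArg Subtype.val h2)

end Lift

section OddLift

variable {G Q : Type*} [Group G] [Finite G] [Group Q]

/-- A conjugating element can be replaced by a `2`-element. -/
theorem exists_two_element_inverting (π : G →* Q) (hπ : Function.Surjective π) {a : Q}
    (h : IsConj a a⁻¹) :
    ∃ (v : G) (k : ℕ), v ^ 2 ^ k = 1 ∧ π v * a * (π v)⁻¹ = a⁻¹ := by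
  obtain ⟨u, hu⟩ := isConj_iff.mp h
  have hu' : u * a * u⁻¹ = a⁻¹ := hu
  obtain ⟨w, rfl⟩ := hπ u
  have h0 : orderOf w ≠ 0 := (orderOf_pos w).ne'
  obtain ⟨k, m, hm, hkm⟩ := Nat.exists_eq_two_pow_mul_odd h0
  refine ⟨w ^ m, k, ?_, ?_⟩
  · rw [← pow_mul, mul_comm, ← hkm, pow_orderOf_eq_one]
  · obtain ⟨j, rfl⟩ := hm
    set u := π w with hudef
    have h2 : u * u * a * (u * u)⁻¹ = a := by
      calc u * u * a * (u * u)⁻¹ = u * (u * a * u⁻¹) * u⁻¹ := by group
        _ = u * a⁻¹ * u⁻¹ := by rw [hu']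
        _ = (u * a * u⁻¹)⁻¹ := by group
        _ = a := by rw [hu', inv_inv]
    have h3 : ∀ i : ℕ, (u * u) ^ i * a * ((u * u) ^ i)⁻¹ = a := by
      intro i
      induction i with
      | zero => simp
      | succ i ih =>
        calc (u * u) ^ (i + 1) * a * ((u * u) ^ (i + 1))⁻¹
            = (u * u) ^ i * ((u * u) * a * (u * u)⁻¹) * ((u * u) ^ i)⁻¹ := by
              rw [pow_succ]; group
          _ = a := by rw [h2, ih]
    have h4 : u ^ (2 * j + 1) = u * (u * u) ^ j := by
      rw [pow_succ', pow_mul, pow_two]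
    rw [map_pow, h4]
    calc u * (u * u) ^ j * a * (u * (u * u) ^ j)⁻¹
        = u * ((u * u) ^ j * a * ((u * u) ^ j)⁻¹) * u⁻¹ := by group
      _ = a⁻¹ := by rw [h3, hu']

/-- Real elements lift modulo a normal subgroup of odd order. -/
theorem exists_real_lift_of_odd (N : Subgroup G) [N.Normal] (hodd : Odd (Nat.card N))
    (q : G ⧸ N) (hq : IsConj q q⁻¹) : ∃ g : G, IsConj g g⁻¹ ∧ (g : G ⧸ N) = q := by
  classical
  obtain ⟨v, k, hvk, hc⟩ := exists_two_element_inverting (QuotientGroup.mk' N)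
    (QuotientGroup.mk'_surjective N) hq
  obtain ⟨g₀, rfl⟩ := QuotientGroup.mk_surjective q
  let S := {x : G // (x : G ⧸ N) = (g₀ : G ⧸ N)}
  let _ : Fintype S := Fintype.ofFinite _
  have hv : ∀ x : S, (((v * x.1 * v⁻¹)⁻¹ : G) : G ⧸ N) = (g₀ : G ⧸ N) := by
    intro x
    have h1 : (((v * x.1 * v⁻¹)⁻¹ : G) : G ⧸ N) =
        (((v : G ⧸ N) * (x.1 : G ⧸ N) * (v : G ⧸ N)⁻¹)⁻¹) := rfl
    rw [h1, x.2]
    have h2 : ((v : G ⧸ N) * (g₀ : G ⧸ N) * (v : G ⧸ N)⁻¹) = (g₀ : G ⧸ N)⁻¹ := hc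
    rw [h2, inv_inv]
  let f : Function.End S := fun x => ⟨(v * x.1 * v⁻¹)⁻¹, hv x⟩
  have hff : ∀ x : S, (f (f x)).1 = (v * v) * x.1 * (v * v)⁻¹ := by
    intro x
    change (v * (v * x.1 * v⁻¹)⁻¹ * v⁻¹)⁻¹ = _
    simp only [mul_inv_rev, inv_inv, mul_assoc]
  have hf2 : ∀ (i : ℕ) (x : S), ((f ^ (2 * i)) x).1 = (v * v) ^ i * x.1 * ((v * v) ^ i)⁻¹ := by
    intro i
    induction i with
    | zero =>
      intro x
      simp only [mul_zero, pow_zero, one_mul, inv_one, mul_one]
      rfl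
    | succ i ih =>
      intro x
      have e : 2 * (i + 1) = 2 * i + 1 + 1 := by ring
      have e2 : (f ^ (2 * (i + 1))) x = (f ^ (2 * i)) (f (f x)) := by
        rw [e, pow_succ, pow_succ]
        rfl
      rw [e2, ih, hff, pow_succ]
      group
  have hf1 : f ^ 2 ^ (k + 1) = 1 := by
    funext x
    apply Subtype.ext
    have e : 2 ^ (k + 1) = 2 * 2 ^ k := by ring
    rw [e, hf2]
    have : (v * v) ^ 2 ^ k = 1 := by
      rw [← pow_two, ← pow_mul, mul_comm, pow_mul, hvk, one_pow]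
    rw [this]
    simp only [one_mul, inv_one, mul_one]
    rfl
  haveI : Fact (Nat.Prime 2) := ⟨Nat.prime_two⟩
  have hmod := Equiv.Perm.card_fixedPoints_modEq (p := 2) hf1
  have hS : Fintype.card S = Nat.card N := by
    rw [← Nat.card_eq_fintype_card]
    refine Nat.card_congr ⟨fun x => ⟨g₀⁻¹ * x.1, ?_⟩, fun n => ⟨g₀ * n.1, ?_⟩, ?_, ?_⟩
    · exact QuotientGroup.eq.mp x.2.symm
    · rw [QuotientGroup.mk_mul, QuotientGroup.eq_one_iff n.1 |>.mpr n.2, mul_one]
    · intro x; simp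
    · intro n; simp
  rw [hS] at hmod
  have hodd2 : Nat.card N % 2 = 1 := Nat.odd_iff.mp hodd
  have hfix : Fintype.card (Function.fixedPoints f) ≠ 0 := by
    intro h0
    rw [h0] at hmod
    have : Nat.card N % 2 = 0 % 2 := hmod
    omega
  obtain ⟨⟨x, hx⟩⟩ := Fintype.card_pos_iff.mp (Nat.pos_of_ne_zero hfix)
  refine ⟨x.1, ?_, x.2⟩
  have h1 : (v * x.1 * v⁻¹)⁻¹ = x.1 := congrArg Subtype.val hx
  have h2 : v * x.1 * v⁻¹ = x.1⁻¹ := by rw [← h1, inv_inv, h1]
  exact isConj_iff.mpr ⟨v, h2⟩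

end OddLift

section Invert

variable {G : Type*} [Group G]

/-- A `2`-element not centralizing a normal subgroup `N` yields a nontrivial real element of `N`. -/
theorem exists_real_of_not_centralizes (N : Subgroup G) [hN : N.Normal] {t : G} {k : ℕ}
    (ht : t ^ 2 ^ k = 1) (hnc : ∃ n ∈ N, t * n * t⁻¹ ≠ n) :
    ∃ n ∈ N, n ≠ 1 ∧ IsConj n n⁻¹ := by
  classical
  let P : ℕ → Prop := fun j => ∀ n ∈ N, t ^ 2 ^ j * n * (t ^ 2 ^ j)⁻¹ = n
  have hPk : P k := by
    intro n _
    rw [ht]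
    simp
  have hP0 : ¬ P 0 := by
    intro h
    obtain ⟨n, hn, hne⟩ := hnc
    apply hne
    have := h n hn
    simpa using this
  have hex : ∃ j, P j := ⟨k, hPk⟩
  have hj : P (Nat.find hex) := Nat.find_spec hex
  have hj0 : Nat.find hex ≠ 0 := by
    intro h
    rw [h] at hj
    exact hP0 hj
  obtain ⟨i, hi⟩ := Nat.exists_eq_succ_of_ne_zero hj0
  have hiP : ¬ P i := Nat.find_min hex (by omega)
  rw [hi] at hj
  set τ := t ^ 2 ^ i with hτ
  have hτ2 : ∀ n ∈ N, τ * (τ * n * τ⁻¹) * τ⁻¹ = n := by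
    intro n hn
    have h1 := hj n hn
    have e : t ^ 2 ^ (i + 1) = τ * τ := by
      rw [hτ, pow_succ, pow_mul, pow_two]
    rw [Nat.succ_eq_add_one, e] at h1
    calc τ * (τ * n * τ⁻¹) * τ⁻¹ = τ * τ * n * (τ * τ)⁻¹ := by group
      _ = n := h1
  have hiP' : ∃ n ∈ N, τ * n * τ⁻¹ ≠ n := by
    by_contra hcon
    push Not at hcon
    exact hiP hcon
  obtain ⟨n, hn, hne⟩ := hiP'
  refine ⟨n⁻¹ * (τ * n * τ⁻¹), mul_mem (inv_mem hn) (hN.conj_mem n hn τ), ?_, ?_⟩
  · intro h
    apply hne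
    exact (inv_mul_eq_one.mp h).symm
  · refine isConj_iff.mpr ⟨τ, ?_⟩
    calc τ * (n⁻¹ * (τ * n * τ⁻¹)) * τ⁻¹
        = (τ * n * τ⁻¹)⁻¹ * (τ * (τ * n * τ⁻¹) * τ⁻¹) := by group
      _ = (τ * n * τ⁻¹)⁻¹ * n := by rw [hτ2 n hn]
      _ = _ := by group

end Invert

section Fixed

variable {G : Type*} [Group G] [Fintype G]

/-- A character of degree prime to `p` over `θ`: every `p`-subgroup fixes a conjugate of `θ`. -/
theorem exists_conj_fixed {N : Subgroup G} (hN : N.Normal) [Fintype N] {p : ℕ} [Fact p.Prime]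
    {χ : G → ℂ} (hχ : IsIrrCharacter G χ) (hp : ¬ p ∣ charDegree χ) {θ : N → ℂ}
    (hθ : IsIrrCharacter N θ) (hcon : classInner (fun n : N => χ n) θ ≠ 0)
    {Q : Subgroup G} (hQ : IsPGroup p Q) :
    ∃ g : G, ∀ x ∈ Q, conjOn hN x (conjOn hN g θ) = conjOn hN g θ := by
  classical
  have h1 := deg_eq_of_constituent hN hχ hθ hcon
  obtain ⟨e, he⟩ := exists_nat_classInner (isCharacter_restrict N (isCharacter_of_isIrrCharacter hχ))
    (isCharacter_of_isIrrCharacter hθ)
  have he' : classInner (fun n : N => χ n) θ = e := he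
  obtain ⟨d, hd⟩ := exists_deg_of_isCharacter (isCharacter_of_isIrrCharacter hθ)
  set T := inertia hN θ with hT
  rw [he', hd] at h1
  have h2 : charDegree χ = e * T.index * d := by
    apply charDegree_eq_of_eq_natCast
    rw [h1]
    push_cast
    ring
  have hidx : ¬ p ∣ T.index := fun h => hp (by
    rw [h2]
    exact (h.mul_left e).mul_right d)
  have : Finite (G ⧸ T) := inferInstance
  have hcard : ¬ p ∣ Nat.card (G ⧸ T) := hidx
  obtain ⟨a, ha⟩ := hQ.nonempty_fixed_point_of_prime_not_dvd_card (G ⧸ T) hcard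
  obtain ⟨a, rfl⟩ := QuotientGroup.mk_surjective a
  refine ⟨a⁻¹, fun x hx => ?_⟩
  have h3 : (⟨x, hx⟩ : Q) • ((a : G) : G ⧸ T) = (a : G ⧸ T) := ha ⟨x, hx⟩
  have h4 : a⁻¹ * (x * a) ∈ T := by
    have h5 : ((x * a : G) : G ⧸ T) = (a : G ⧸ T) := h3
    have := QuotientGroup.eq.mp h5.symm
    exact this
  have h6 : conjOn hN (a⁻¹ * x * a) θ = θ := (mem_inertia hN θ _).mp (by
    rwa [mul_assoc])
  have e1 : a⁻¹ * x = (a⁻¹ * x * a) * a⁻¹ := by group
  rw [← conjOn_mul, e1, conjOn_mul, h6]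

/-- A fixed linear character of an abelian `p'`-group is trivial if `C_N(Q) = 1`. -/
theorem eq_one_of_fixed_abelian {N : Subgroup G} (hN : N.Normal) [Fintype N] {p : ℕ} [Fact p.Prime]
    (hab : ∀ a ∈ N, ∀ b ∈ N, a * b = b * a) {Q : Subgroup G} (hQ : IsPGroup p Q)
    (hcop : ¬ p ∣ Nat.card N) (hC : ∀ n ∈ N, (∀ x ∈ Q, x * n * x⁻¹ = n) → n = 1)
    {θ : N → ℂ} (hθ : IsIrrCharacter N θ) (hfix : ∀ x ∈ Q, conjOn hN x θ = θ) (n : N) :
    θ n = 1 := by
  classical
  let _ : Fintype Q := Fintype.ofFinite _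
  have hcomm : ∀ a b : N, a * b = b * a := fun a b => Subtype.ext (hab a a.2 b b.2)
  have h1 : θ 1 = 1 := isIrr_deg_one_of_comm hcomm hθ
  have hmul := deg_one_mul (isCharacter_of_isIrrCharacter hθ) h1
  letI cg : CommGroup N := { (inferInstance : Group N) with mul_comm := hcomm }
  let c : Q → N := fun x => ⟨x * n * (x : G)⁻¹, hN.conj_mem n n.2 x⟩
  have hθc : ∀ x : Q, θ (c x) = θ n := fun x => by
    have := congrFun (hfix x x.2) n
    exact this
  let m : N := ∏ x : Q, c x
  have hθprod : ∀ (s : Finset Q), θ (∏ x ∈ s, c x) = θ n ^ s.card := by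
    intro s
    induction s using Finset.induction_on with
    | empty => simpa using h1
    | insert a s ha ih =>
      rw [Finset.prod_insert ha, hmul, ih, hθc, Finset.card_insert_of_notMem ha, pow_succ']
  have hm1 : θ m = θ n ^ Fintype.card Q := hθprod Finset.univ
  -- conjugation is a group automorphism of `N`
  have hmfix : ∀ y ∈ Q, y * (m : G) * y⁻¹ = m := by
    intro y hy
    let conjN : N →* N :=
      { toFun := fun z => ⟨y * z * y⁻¹, hN.conj_mem z z.2 y⟩
        map_one' := by ext; simp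
        map_mul' := fun a b => Subtype.ext (by
          change y * ((a : G) * b) * y⁻¹ = (y * a * y⁻¹) * (y * b * y⁻¹)
          group) }
    have h2 : conjN m = m := by
      have h3 : conjN m = ∏ x : Q, conjN (c x) := map_prod conjN _ _
      rw [h3]
      refine Fintype.prod_equiv (Equiv.mulLeft (⟨y, hy⟩ : Q)) _ _ fun x => ?_
      apply Subtype.ext
      simp [conjN, c, mul_assoc]
    exact congrArg Subtype.val h2
  have hm : (m : G) = 1 := hC m m.2 hmfix
  have hm' : m = 1 := Subtype.ext hm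
  have h3 : θ n ^ Fintype.card Q = 1 := by
    rw [← hm1, hm', h1]
  have h4 : θ n ^ Nat.card N = 1 := by
    have h5 : ∀ j : ℕ, θ (n ^ j) = θ n ^ j := by
      intro j
      induction j with
      | zero => simpa using h1
      | succ j ih => rw [pow_succ, hmul, ih, pow_succ]
    rw [← h5, pow_card_eq_one', h1]
  have hcopr : (Fintype.card Q).Coprime (Nat.card N) := by
    rw [← Nat.card_eq_fintype_card]
    obtain ⟨a, ha⟩ := IsPGroup.iff_card.mp hQ
    rw [ha]
    exact Nat.Coprime.pow_left a ((Nat.Prime.coprime_iff_not_dvd Fact.out).mpr hcop)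
  have h6 := (pow_gcd_eq_one).mpr ⟨h3, h4⟩
  rw [hcopr.gcd_eq_one, pow_one] at h6
  exact h6

/-- A character of degree prime to `p` has normal subgroups of `P'` in its kernel. -/
theorem eq_of_mem_of_le_commutator {p : ℕ} [Fact p.Prime] {χ : G → ℂ} (hχ : IsIrrCharacter G χ)
    (hp : ¬ p ∣ charDegree χ) {M : Subgroup G} (hM : M.Normal) [Fintype M] {P : Subgroup G}
    (hP : IsPGroup p P) (hMP : M ≤ ⁅P, P⁆) (m : M) : χ m = χ 1 := by
  classical
  let _ : Fintype P := Fintype.ofFinite _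
  have := finite_irrCharacter (G := P)
  let _ : Fintype (IrrCharacter P) := Fintype.ofFinite _
  have hχc := isCharacter_of_isIrrCharacter hχ
  -- a linear constituent of `χ_P`
  obtain ⟨c, hc⟩ := exists_nat_combination (isCharacter_restrict P hχc)
  have hdeg : ∃ τ : IrrCharacter P, c τ ≠ 0 ∧ (τ : P → ℂ) 1 = 1 := by
    by_contra hcon
    push Not at hcon
    apply hp
    have h1 : ∀ τ : IrrCharacter P, p ∣ c τ * charDegree (τ : P → ℂ) := by
      intro τ
      by_cases hτ : c τ = 0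
      · simp [hτ]
      · have h2 := hcon τ hτ
        have h3 : charDegree (τ : P → ℂ) ≠ 1 := by
          intro h
          apply h2
          rw [← charDegree_natCast (isCharacter_of_isIrrCharacter τ.2), h]
          simp
        have h4 := charDegree_dvd_card τ.2
        obtain ⟨a, ha⟩ := IsPGroup.iff_card.mp hP
        rw [ha] at h4
        obtain ⟨j, -, hj⟩ := (Nat.dvd_prime_pow Fact.out).mp h4
        rw [hj] at h3 ⊢
        have hj0 : j ≠ 0 := by
          rintro rfl
          simp at h3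
        exact Dvd.dvd.mul_left (dvd_pow_self p hj0) _
    have h5 : charDegree χ = ∑ τ : IrrCharacter P, c τ * charDegree (τ : P → ℂ) := by
      apply charDegree_eq_of_eq_natCast
      have h6 : χ 1 = ∑ τ : IrrCharacter P, (c τ : ℂ) * (τ : P → ℂ) 1 := by
        have h7 := congrFun hc 1
        rw [Finset.sum_apply] at h7
        refine h7.trans (Finset.sum_congr rfl fun τ _ => ?_)
        rw [Pi.smul_apply, nsmul_eq_mul]
      rw [h6]
      push_cast
      refine Finset.sum_congr rfl fun τ _ => ?_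
      rw [charDegree_natCast (isCharacter_of_isIrrCharacter τ.2)]
    rw [h5]
    exact Finset.dvd_sum fun τ _ => h1 τ
  obtain ⟨τ, hτc, hτ1⟩ := hdeg
  have hτcar := isCharacter_of_isIrrCharacter τ.2
  obtain ⟨lam, hlam⟩ := exists_hom_of_deg_one hτcar hτ1
  have hMle : M ≤ P := hMP.trans (Subgroup.commutator_le.mpr fun a ha b hb => by
    rw [commutatorElement_def]
    exact mul_mem (mul_mem (mul_mem ha hb) (inv_mem ha)) (inv_mem hb))
  let f : M →* P := Subgroup.inclusion hMle
  have hτM : ∀ x : M, (τ : P → ℂ) (f x) = 1 := by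
    intro x
    have h1 : ⁅P, P⁆ ≤ (lam.ker).map P.subtype := by
      rw [Subgroup.commutator_le]
      intro a ha b hb
      refine ⟨⟨a, ha⟩ * ⟨b, hb⟩ * (⟨a, ha⟩ : P)⁻¹ * (⟨b, hb⟩ : P)⁻¹, ?_, ?_⟩
      · rw [SetLike.mem_coe, MonoidHom.mem_ker, map_mul, map_mul, map_mul, map_inv, map_inv]
        rw [mul_comm (lam ⟨a, ha⟩)]
        simp
      · simp [commutatorElement_def]
    obtain ⟨y, hy, hxy⟩ := h1 (hMP x.2)
    have h2 : y = f x := Subtype.ext hxy
    rw [← h2]
    rw [congrFun hlam y]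
    have h3 : lam y = 1 := hy
    simp [h3]
  have hcon : classInner ((fun t : P => χ t) ∘ f) (fun _ : M => (1 : ℂ)) ≠ 0 := by
    refine classInner_ne_zero_mono f (isCharacter_restrict P hχc) τ.2 ?_
      (isCharacter_of_isIrrCharacter Cfsg.Agent.Lib.Char.RealChar.isIrr_one') ?_
    · conv_lhs => rw [hc]
      rw [classInner_of_nat_combination]
      exact_mod_cast hτc
    · have h1 : (τ : P → ℂ) ∘ f = fun _ => (1 : ℂ) := funext hτM
      rw [h1, classInner_self_of_isIrr Cfsg.Agent.Lib.Char.RealChar.isIrr_one']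
      exact one_ne_zero
  have hcon' : classInner (fun n : M => χ n) (fun _ : M => (1 : ℂ)) ≠ 0 := hcon
  have hcl := clifford_restrict hM hχ Cfsg.Agent.Lib.Char.RealChar.isIrr_one' hcon'
  have horb : orbitFinset hM (fun _ : M => (1 : ℂ)) = {fun _ => 1} := by
    ext φ
    rw [mem_orbitFinset, Finset.mem_singleton]
    constructor
    · rintro ⟨g, rfl⟩
      rfl
    · rintro rfl
      exact ⟨1, rfl⟩
  rw [horb, Finset.sum_singleton] at hcl
  have h1 := congrFun hcl m
  have h2 := congrFun hcl 1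
  simp only [Pi.smul_apply, smul_eq_mul, mul_one, OneMemClass.coe_one] at h1 h2
  rw [h1, h2]

end Fixed

end Cfsg.Agent.Lib.RealDeg.Basic
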