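import Cfsg.Agent.Lib.RealDeg.Basic
import Cfsg.Agent.Lib.Solvable.Basic
import Mathlib.GroupTheory.Sylow
import Mathlib.GroupTheory.Solvable
import Mathlib.Tactic

/-!
# The subgroups generated by the `p`-elements and inherited hypotheses
-/

set_option autoImplicit false
set_option linter.style.haveILetI false

namespace Cfsg.Agent.Lib.RealDeg.Core

open Cfsg Module
open Cfsg.Agent.Lib.Char.Basic Cfsg.Agent.Lib.Char.Ortho Cfsg.Agent.Lib.Char.Complete
open Cfsg.Agent.Lib.Char.Clifford Cfsg.Agent.Lib.Char.CliffordCorr Cfsg.Agent.Lib.Char.Conj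
open Cfsg.Agent.Lib.Char.Degree
open Cfsg.Agent.Lib.RealDeg.Basic
open Cfsg.Agent.Lib.Solvable.Basic
open scoped commutatorElement

universe u

/-- The subgroup generated by the `p`-elements. -/
abbrev Op (p : ℕ) (G : Type*) [Group G] : Subgroup G := Subgroup.closure {g : G | ∃ k : ℕ, orderOf g = p ^ k}

/-- All real irreducible characters have degree prime to `p`. -/
def RealDegHyp (p : ℕ) (G : Type*) [Group G] : Prop :=
  ∀ χ : IrrCharacter G, (∀ g : G, ((χ : G → ℂ) g).im = 0) → ¬ p ∣ charDegree (χ : G → ℂ)

section Basic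

variable {G Q : Type*} [Group G] [Group Q]

theorem pow_orderOf_of_mem {p : ℕ} (hp : p.Prime) {g : G} (h : ∃ k : ℕ, orderOf g = p ^ k) :
    ∃ k : ℕ, g ^ p ^ k = 1 := by
  obtain ⟨k, hk⟩ := h
  exact ⟨k, by rw [← hk, pow_orderOf_eq_one]⟩

theorem exists_orderOf_of_pow {p : ℕ} (hp : p.Prime) {g : G} {k : ℕ} (h : g ^ p ^ k = 1) :
    ∃ j : ℕ, orderOf g = p ^ j := by
  obtain ⟨j, -, hj⟩ := (Nat.dvd_prime_pow hp).mp (orderOf_dvd_of_pow_eq_one h)
  exact ⟨j, hj⟩

theorem op_normal (p : ℕ) : (Op p G).Normal := by
  constructor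
  intro n hn g
  induction hn using Subgroup.closure_induction with
  | mem x hx =>
    apply Subgroup.subset_closure
    obtain ⟨k, hk⟩ := hx
    refine ⟨k, ?_⟩
    rw [← hk]
    have : orderOf (g * x * g⁻¹) = orderOf x := by
      rw [← MulAut.conj_apply]
      exact MulEquiv.orderOf_eq _ _
    exact this
  | one => simp
  | mul x y _ _ hx hy =>
    have e : g * (x * y) * g⁻¹ = (g * x * g⁻¹) * (g * y * g⁻¹) := by group
    rw [e]
    exact mul_mem hx hy
  | inv x _ hx =>
    have e : g * x⁻¹ * g⁻¹ = (g * x * g⁻¹)⁻¹ := by group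
    rw [e]
    exact inv_mem hx

/-- The image of `O^{p'}` is `O^{p'}` for a surjection. -/
theorem map_op [Finite G] {p : ℕ} (hp : p.Prime) (f : G →* Q) (hf : Function.Surjective f) :
    (Op p G).map f = Op p Q := by
  apply le_antisymm
  · rw [MonoidHom.map_closure]
    apply Subgroup.closure_mono
    rintro _ ⟨g, ⟨k, hk⟩, rfl⟩
    have h1 : (f g) ^ p ^ k = 1 := by
      rw [← map_pow, ← hk, pow_orderOf_eq_one, map_one]
    exact exists_orderOf_of_pow hp h1
  · rw [Subgroup.closure_le]
    rintro q ⟨k, hk⟩
    obtain ⟨g, rfl⟩ := hf q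
    -- the `p`-part of `g`
    have h0 : orderOf g ≠ 0 := (orderOf_pos g).ne'
    obtain ⟨b, m, hm, hbm⟩ := Nat.exists_eq_pow_mul_and_not_dvd h0 p hp.ne_one
    have hcop : m.Coprime (orderOf (f g)) := by
      rw [hk]
      exact ((Nat.Prime.coprime_iff_not_dvd hp).mpr hm).symm.pow_right k
    obtain ⟨m', hm'⟩ := exists_pow_eq_self_of_coprime hcop
    refine ⟨(g ^ m) ^ m', Subgroup.subset_closure ?_, ?_⟩
    · refine exists_orderOf_of_pow hp (k := b) ?_
      rw [← pow_mul, ← pow_mul]
      have e : m * (m' * p ^ b) = (p ^ b * m) * m' := by ring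
      rw [e, ← hbm, pow_mul, pow_orderOf_eq_one, one_pow]
    · rw [map_pow, map_pow]
      exact hm'

theorem isSolvable_op_of_surjective [Finite G] {p : ℕ} (hp : p.Prime) (f : G →* Q)
    (hf : Function.Surjective f) (h : Group.IsSolvable (Op p G)) : Group.IsSolvable (Op p Q) := by
  have h1 := map_op hp f hf
  rw [← h1]
  have hs : Function.Surjective (f.subgroupMap (Op p G)) := f.subgroupMap_surjective _
  haveI := h
  exact Group.isSolvable_of_surjective hs

theorem realDegHyp_of_surjective {p : ℕ} (f : G →* Q) (hf : Function.Surjective f)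
    (h : RealDegHyp p G) : RealDegHyp p Q := by
  intro φ hφ
  have h1 := h ⟨(φ : Q → ℂ) ∘ f, Cfsg.Agent.Lib.Char.Linear.isIrrCharacter_comp f hf φ.2⟩
    (fun g => hφ (f g))
  have h2 : charDegree ((φ : Q → ℂ) ∘ f) = charDegree (φ : Q → ℂ) := by
    simp [charDegree]
  rwa [← h2]

/-- `relIndex` is preserved when the subgroup is a full preimage. -/
theorem relIndex_comap_of_le {N : Subgroup G} [N.Normal] (V : Subgroup G) (R : Subgroup (G ⧸ N))
    (hR : R ≤ V.map (QuotientGroup.mk' N)) :
    (R.comap (QuotientGroup.mk' N)).relIndex V = R.relIndex (V.map (QuotientGroup.mk' N)) := by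
  let π := QuotientGroup.mk' N
  let f : V →* V.map π := π.subgroupMap V
  have hf : Function.Surjective f := π.subgroupMap_surjective V
  have h1 : (R.comap π).subgroupOf V = (R.subgroupOf (V.map π)).comap f := by
    ext v
    simp only [Subgroup.mem_subgroupOf, Subgroup.mem_comap]
    rfl
  rw [Subgroup.relIndex, Subgroup.relIndex, h1, Subgroup.index_comap_of_surjective _ hf]

/-- The `relIndex` of images divides. -/
theorem relIndex_map_dvd (f : G →* Q) (hf : Function.Surjective f) (K V : Subgroup G) :
    (K.map f).relIndex (V.map f) ∣ K.relIndex V := by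
  let f' : V →* V.map f := f.subgroupMap V
  have hf' : Function.Surjective f' := f.subgroupMap_surjective V
  have h2 : (K.subgroupOf V).map f' ≤ (K.map f).subgroupOf (V.map f) := by
    rintro _ ⟨v, hv, rfl⟩
    exact ⟨v.1, hv, rfl⟩
  have h3 := Subgroup.index_map_dvd (K.subgroupOf V) hf'
  have h4 : ((K.map f).subgroupOf (V.map f)).index ∣ ((K.subgroupOf V).map f').index :=
    Subgroup.index_dvd_of_le h2
  exact h4.trans h3

end Basic

section MinNormal

variable {G : Type*} [Group G] [Finite G]

/-- A minimal normal subgroup is abelian or meets `O^{p'}(G)` trivially. -/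
theorem abelian_or_disjoint {p : ℕ} (hsolv : Group.IsSolvable (Op p G)) {N : Subgroup G}
    (hN : IsMinNormal N) :
    (∀ a ∈ N, ∀ b ∈ N, a * b = b * a) ∨ N ⊓ Op p G = ⊥ := by
  have hnormal : N.Normal := hN.1
  have hopn : (Op p G).Normal := op_normal p
  rcases hN.2.2 (N ⊓ Op p G) inferInstance inf_le_left with h | h
  · exact Or.inr h
  · left
    have hNle : N ≤ Op p G := inf_eq_left.mp h
    -- `N` is solvable
    haveI := hsolv
    have hNs : Group.IsSolvable N := Group.isSolvable_of_isSolvable_injective
      (f := Subgroup.inclusion hNle) (Subgroup.inclusion_injective hNle)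
    have hcomm : (⁅N, N⁆ : Subgroup G).Normal := Subgroup.commutator_normal N N
    have hle : ⁅N, N⁆ ≤ N := Subgroup.commutator_le_left N N
    rcases hN.2.2 _ hcomm hle with h1 | h1
    · intro a ha b hb
      have h2 : ⁅a, b⁆ ∈ (⁅N, N⁆ : Subgroup G) := Subgroup.commutator_mem_commutator ha hb
      rw [h1, Subgroup.mem_bot, commutatorElement_eq_one_iff_mul_comm] at h2
      exact h2
    · exfalso
      have h3 : ∀ n : ℕ, derivedSeries N n = ⊤ := by
        intro n
        induction n with
        | zero => rfl
        | succ n ih =>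
          rw [derivedSeries_succ, ih]
          have h4 : (⁅N, N⁆ : Subgroup G) = N := h1
          have h5 : (commutator N) = ⊤ := by
            have h6 := Subgroup.map_subtype_commutator N
            rw [h4] at h6
            apply Subgroup.map_injective N.subtype_injective
            rw [h6, ← MonoidHom.range_eq_map, Subgroup.range_subtype]
          exact h5
      obtain ⟨n, hn⟩ := hNs.solvable
      have h7 := h3 n
      rw [hn] at h7
      have : (⊥ : Subgroup N) = ⊤ := h7
      have h8 : N = ⊥ := by
        rw [eq_bot_iff]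
        intro x hx
        have h9 : (⟨x, hx⟩ : N) ∈ (⊥ : Subgroup N) := by rw [this]; trivial
        have : (⟨x, hx⟩ : N) = 1 := h9
        exact congrArg Subtype.val this
      exact hN.2.1 h8

/-- A minimal normal subgroup is a `p`-group or of order prime to `p`. -/
theorem isPGroup_or_coprime {p : ℕ} [hp : Fact p.Prime] (hsolv : Group.IsSolvable (Op p G))
    {N : Subgroup G} (hN : IsMinNormal N) : IsPGroup p N ∨ ¬ p ∣ Nat.card N := by
  have hnormal : N.Normal := hN.1
  rcases abelian_or_disjoint hsolv hN with hab | hdis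
  · obtain ⟨S⟩ : Nonempty (Sylow p N) := inferInstance
    have hSn : (S : Subgroup N).Normal := by
      constructor
      intro n hn g
      have : g * n * g⁻¹ = n := by
        apply Subtype.ext
        have h1 := hab g g.2 n n.2
        simp [h1]
      rwa [this]
    have hchar := Sylow.characteristic_of_normal S hSn
    have hmapn : ((S : Subgroup N).map N.subtype).Normal := inferInstance
    have hle : (S : Subgroup N).map N.subtype ≤ N := Subgroup.map_subtype_le _
    rcases hN.2.2 _ hmapn hle with h | h
    · right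
      have h1 : (S : Subgroup N) = ⊥ :=
        (Subgroup.map_eq_bot_iff_of_injective _ N.subtype_injective).mp h
      intro hd
      have h2 := S.card_eq_multiplicity
      rw [h1, Subgroup.card_bot] at h2
      have h3 : (Nat.card N).factorization p ≠ 0 :=
        (hp.out.factorization_pos_of_dvd Nat.card_pos.ne' hd).ne'
      have h4 : p ^ (Nat.card N).factorization p = 1 := h2.symm
      exact h3 (by
        have := (Nat.pow_eq_one.mp h4)
        rcases this with h5 | h5
        · exact absurd h5 hp.out.ne_one
        · exact h5)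
    · left
      have h2 : (S : Subgroup N) = ⊤ := by
        apply Subgroup.map_injective N.subtype_injective
        rw [h, ← MonoidHom.range_eq_map, Subgroup.range_subtype]
      have h3 := S.isPGroup'
      rw [h2] at h3
      exact h3.of_equiv Subgroup.topEquiv
  · right
    intro hd
    obtain ⟨x, hx⟩ := exists_prime_orderOf_dvd_card' p hd
    have hxN : (x : G) ∈ N := x.2
    have hxO : (x : G) ∈ Op p G := Subgroup.subset_closure ⟨1, by
      rw [pow_one]
      have : orderOf (x : G) = orderOf x := Subgroup.orderOf_coe x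
      rw [this, hx]⟩
    have h1 : (x : G) ∈ N ⊓ Op p G := ⟨hxN, hxO⟩
    rw [hdis, Subgroup.mem_bot] at h1
    have h2 : x = 1 := Subtype.ext h1
    rw [h2, orderOf_one] at hx
    exact hp.out.ne_one hx.symm

end MinNormal

end Cfsg.Agent.Lib.RealDeg.Core
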