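import Cfsg.Agent.Lib.RealDeg.Core
import Mathlib.GroupTheory.Sylow
import Mathlib.Tactic

/-!
# Normal Sylow subgroups when real characters have `p'`-degree
-/

set_option autoImplicit false
set_option linter.style.haveILetI false

namespace Cfsg.Agent.Lib.RealDeg.NormalSylow

open Cfsg Module
open Cfsg.Agent.Lib.Char.Basic Cfsg.Agent.Lib.Char.Ortho Cfsg.Agent.Lib.Char.Complete
open Cfsg.Agent.Lib.Char.Clifford Cfsg.Agent.Lib.Char.CliffordCorr Cfsg.Agent.Lib.Char.Conj
open Cfsg.Agent.Lib.Char.Degree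
open Cfsg.Agent.Lib.RealDeg.Basic
open Cfsg.Agent.Lib.RealDeg.Core
open Cfsg.Agent.Lib.Solvable.Basic
open scoped commutatorElement

universe u

section Noncentral

variable {G : Type u} [Group G] [Finite G]

theorem eq_one_of_pow_of_pow {x : G} {m n : ℕ} (hm : x ^ m = 1) (hn : x ^ n = 1)
    (hc : m.Coprime n) : x = 1 := by
  have h6 := (pow_gcd_eq_one).mpr ⟨hm, hn⟩
  rw [hc.gcd_eq_one, pow_one] at h6
  exact h6

/-- The contradiction in the case of a `p'`-minimal normal subgroup on which a `p`-group acts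
nontrivially, and whose normalizer supplements it. -/
theorem false_of_not_centralizes {p : ℕ} [hp : Fact p.Prime]
    (hreal : RealDegHyp p G) (hsolv : Group.IsSolvable (Op p G)) {V : Subgroup G}
    (hV : V.Normal) (hKV : Op 2 G ≤ V) (hVp : ∃ a : ℕ, (Op 2 G).relIndex V = p ^ a)
    {N : Subgroup G} (hN : IsMinNormal N) (hNcop : ¬ p ∣ Nat.card N) (hNV : N ≤ V)
    {P : Subgroup G} (hP : IsPGroup p P)
    (hFr : ∀ g : G, ∃ n ∈ N, ∃ h ∈ Subgroup.normalizer (P : Set G), g = n * h)
    (hnc : ∃ x ∈ P, ∃ n ∈ N, x * n * x⁻¹ ≠ n) : False := by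
  classical
  let _ : Fintype G := Fintype.ofFinite G
  let _ : Fintype N := Fintype.ofFinite N
  haveI hNn : N.Normal := hN.1
  have hp' : p.Prime := hp.out
  -- elements of `P` have `p`-power order
  have hPpow : ∀ x ∈ P, ∃ k : ℕ, x ^ p ^ k = 1 := by
    intro x hx
    obtain ⟨k, hk⟩ := hP ⟨x, hx⟩
    exact ⟨k, by simpa [Subtype.ext_iff] using hk⟩
  have hPO : P ≤ Op p G := by
    intro x hx
    obtain ⟨k, hk⟩ := hPpow x hx
    exact Subgroup.subset_closure (exists_orderOf_of_pow hp' hk)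
  have hcopN : ∀ k : ℕ, (p ^ k).Coprime (Nat.card N) := fun k =>
    Nat.Coprime.pow_left k ((Nat.Prime.coprime_iff_not_dvd hp').mpr hNcop)
  have hNpow : ∀ n ∈ N, n ^ Nat.card N = 1 := by
    intro n hn
    exact congrArg Subtype.val (pow_card_eq_one' (x := (⟨n, hn⟩ : N)))
  have hNP : ∀ x ∈ N, x ∈ P → x = 1 := by
    intro x hxN hxP
    obtain ⟨k, hk⟩ := hPpow x hxP
    exact eq_one_of_pow_of_pow hk (hNpow x hxN) (hcopN k)
  -- `N` is abelian
  have hab : ∀ a ∈ N, ∀ b ∈ N, a * b = b * a := by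
    rcases abelian_or_disjoint hsolv hN with h | h
    · exact h
    · exfalso
      obtain ⟨x, hx, n, hn, hne⟩ := hnc
      have hdis : Disjoint N (Op p G) := by
        rw [disjoint_iff]
        exact h
      have hc := Subgroup.commute_of_normal_of_disjoint N (Op p G) inferInstance (op_normal p) hdis
        n x hn (hPO hx)
      apply hne
      have hc' : n * x = x * n := hc
      rw [← hc', mul_inv_cancel_right]
  -- `C_N(P) = 1`
  have hC : ∀ n ∈ N, (∀ x ∈ P, x * n * x⁻¹ = n) → n = 1 := by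
    let C : Subgroup G :=
      { carrier := {n | n ∈ N ∧ ∀ x ∈ P, x * n * x⁻¹ = n}
        mul_mem' := by
          rintro a b ⟨ha, ha'⟩ ⟨hb, hb'⟩
          refine ⟨mul_mem ha hb, fun x hx => ?_⟩
          have e : x * (a * b) * x⁻¹ = (x * a * x⁻¹) * (x * b * x⁻¹) := by group
          rw [e, ha' x hx, hb' x hx]
        one_mem' := ⟨one_mem _, fun x _ => by simp⟩
        inv_mem' := by
          rintro a ⟨ha, ha'⟩
          refine ⟨inv_mem ha, fun x hx => ?_⟩
          have e : x * a⁻¹ * x⁻¹ = (x * a * x⁻¹)⁻¹ := by group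
          rw [e, ha' x hx] }
    have hCn : C.Normal := by
      constructor
      rintro c ⟨hcN, hcP⟩ g
      obtain ⟨n, hn, h, hh, rfl⟩ := hFr g
      have hhc : h * c * h⁻¹ ∈ N := hNn.conj_mem c hcN h
      have e1 : (n * h) * c * (n * h)⁻¹ = h * c * h⁻¹ := by
        have h2 := hab n hn _ hhc
        calc (n * h) * c * (n * h)⁻¹ = (n * (h * c * h⁻¹)) * n⁻¹ := by group
          _ = ((h * c * h⁻¹) * n) * n⁻¹ := by rw [h2]
          _ = h * c * h⁻¹ := by group
      rw [e1]
      refine ⟨hhc, fun x hx => ?_⟩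
      have hh' : h⁻¹ ∈ Subgroup.normalizer (P : Set G) := inv_mem hh
      have hx' : h⁻¹ * x * h ∈ P := by
        have := (Subgroup.mem_normalizer_iff.mp hh' x).mp hx
        simpa using this
      have h3 := hcP _ hx'
      calc x * (h * c * h⁻¹) * x⁻¹ = h * ((h⁻¹ * x * h) * c * (h⁻¹ * x * h)⁻¹) * h⁻¹ := by group
        _ = h * c * h⁻¹ := by rw [h3]
    have hCle : C ≤ N := fun c hc => hc.1
    rcases hN.2.2 C hCn hCle with h | h
    · intro n hn hfix
      have : n ∈ C := ⟨hn, hfix⟩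
      rw [h] at this
      exact this
    · exfalso
      obtain ⟨x, hx, n, hn, hne⟩ := hnc
      have : n ∈ C := by rw [h]; exact hn
      exact hne (this.2 x hx)
  -- `N ∩ N_G(P) = 1`
  have hNH : ∀ n ∈ N, n ∈ Subgroup.normalizer (P : Set G) → n = 1 := by
    intro n hn hnH
    apply hC n hn
    intro x hx
    have h1 : x * n * x⁻¹ * n⁻¹ ∈ N := mul_mem (hNn.conj_mem n hn x) (inv_mem hn)
    have h2 : x * n * x⁻¹ * n⁻¹ ∈ P := by
      have h3 : n * x⁻¹ * n⁻¹ ∈ P := (Subgroup.mem_normalizer_iff.mp hnH x⁻¹).mp (inv_mem hx)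
      have e : x * n * x⁻¹ * n⁻¹ = x * (n * x⁻¹ * n⁻¹) := by group
      rw [e]
      exact mul_mem hx h3
    have h3 := hNP _ h1 h2
    exact mul_inv_eq_one.mp h3
  -- lifting of real classes
  have hlift : ∀ q : G ⧸ N, IsConj q q⁻¹ → ∃ g : G, IsConj g g⁻¹ ∧ QuotientGroup.mk' N g = q := by
    intro q hq
    obtain ⟨u, hu⟩ := isConj_iff.mp hq
    obtain ⟨g, rfl⟩ := QuotientGroup.mk_surjective q
    obtain ⟨u, rfl⟩ := QuotientGroup.mk_surjective u
    obtain ⟨n, hn, h, hh, rfl⟩ := hFr g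
    obtain ⟨n', hn', h', hh', rfl⟩ := hFr u
    have e1 : ((n * h : G) : G ⧸ N) = (h : G ⧸ N) := by
      rw [QuotientGroup.mk_mul, (QuotientGroup.eq_one_iff n).mpr hn, one_mul]
    have e2 : ((n' * h' : G) : G ⧸ N) = (h' : G ⧸ N) := by
      rw [QuotientGroup.mk_mul, (QuotientGroup.eq_one_iff n').mpr hn', one_mul]
    rw [e1, e2] at hu
    refine ⟨h, ?_, ?_⟩
    · have h1 : h' * h * h'⁻¹ * h ∈ N := by
        rw [← QuotientGroup.eq_one_iff]
        have e3 : ((h' * h * h'⁻¹ * h : G) : G ⧸ N) =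
            (h' : G ⧸ N) * (h : G ⧸ N) * (h' : G ⧸ N)⁻¹ * (h : G ⧸ N) := rfl
        rw [e3, hu, inv_mul_cancel]
      have h2 : h' * h * h'⁻¹ * h ∈ Subgroup.normalizer (P : Set G) :=
        mul_mem (mul_mem (mul_mem hh' hh) (inv_mem hh')) hh
      have h3 := hNH _ h1 h2
      exact isConj_iff.mpr ⟨h', mul_eq_one_iff_eq_inv.mp h3⟩
    · change ((h : G) : G ⧸ N) = _
      exact e1.symm
  -- a nontrivial real element of `N`
  have hNne : ∃ n ∈ N, n ≠ 1 := by
    by_contra hcon
    push Not at hcon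
    exact hN.2.1 (by
      rw [eq_bot_iff]
      intro n hn
      exact hcon n hn)
  have hrealelt : ∃ n ∈ N, n ≠ 1 ∧ IsConj n n⁻¹ := by
    by_cases h2 : 2 ∣ Nat.card N
    · haveI : Fact (Nat.Prime 2) := ⟨Nat.prime_two⟩
      obtain ⟨x, hx⟩ := exists_prime_orderOf_dvd_card' 2 h2
      have hx1 : (x : G) ≠ 1 := by
        intro h
        have h3 : x = 1 := Subtype.ext h
        rw [h3, orderOf_one] at hx
        omega
      refine ⟨x, x.2, hx1, ?_⟩
      have h4 : (x : G) ^ 2 = 1 := by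
        have : x ^ 2 = 1 := by rw [← hx, pow_orderOf_eq_one]
        simpa [Subtype.ext_iff] using this
      have h5 : (x : G)⁻¹ = x := by
        rw [inv_eq_iff_mul_eq_one, ← pow_two, h4]
      rw [h5]
    · by_contra hcon
      -- all 2-elements centralize `N`
      have hcen : ∀ t : G, ∀ k : ℕ, t ^ 2 ^ k = 1 → ∀ n ∈ N, t * n * t⁻¹ = n := by
        intro t k ht n hn
        by_contra hne
        obtain ⟨n', hn', hn1, hr⟩ := exists_real_of_not_centralizes N ht ⟨n, hn, hne⟩
        exact hcon ⟨n', hn', hn1, hr⟩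
      have hKcen : ∀ t ∈ Op 2 G, ∀ n ∈ N, t * n * t⁻¹ = n := by
        intro t ht n hn
        induction ht using Subgroup.closure_induction with
        | mem x hx =>
          obtain ⟨k, hk⟩ := pow_orderOf_of_mem Nat.prime_two hx
          exact hcen x k hk n hn
        | one => simp
        | mul x y _ _ hx hy =>
          have e : x * y * n * (x * y)⁻¹ = x * (y * n * y⁻¹) * x⁻¹ := by group
          rw [e, hy, hx]
        | inv x _ hx =>
          have e : x⁻¹ * n * x⁻¹⁻¹ = x⁻¹ * (x * n * x⁻¹) * x := by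
            rw [hx]; group
          rw [e]; group
      -- `N ≤ K`
      have hNK : N ≤ Op 2 G := by
        intro n hn
        obtain ⟨a, ha⟩ := hVp
        haveI : (Op 2 G).Normal := op_normal 2
        have h3 : n ^ p ^ a ∈ Op 2 G := by
          haveI : ((Op 2 G).subgroupOf V).Normal := Subgroup.Normal.subgroupOf inferInstance V
          have h4 := Subgroup.pow_index_mem ((Op 2 G).subgroupOf V) (⟨n, hNV hn⟩ : V)
          have e : ((Op 2 G).subgroupOf V).index = p ^ a := ha
          rw [e] at h4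
          exact Subgroup.mem_subgroupOf.mp h4
        -- the order of `n` is coprime to `p ^ a`
        obtain ⟨u, v, huv⟩ : ∃ u v : ℤ, (p ^ a : ℤ) * u + (Nat.card N : ℤ) * v = 1 := by
          have hc : Int.gcd (p ^ a : ℕ) (Nat.card N : ℕ) = 1 := by
            rw [Int.gcd_natCast_natCast]
            exact hcopN a
          have := Int.gcd_eq_gcd_ab (p ^ a : ℕ) (Nat.card N : ℕ)
          rw [hc] at this
          refine ⟨Int.gcdA (p ^ a : ℕ) (Nat.card N : ℕ), Int.gcdB (p ^ a : ℕ) (Nat.card N : ℕ), ?_⟩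
          push_cast at this ⊢
          linarith
        have e : n = (n ^ p ^ a) ^ u * (n ^ Nat.card N) ^ v := by
          rw [← zpow_natCast n (p ^ a), ← zpow_natCast n (Nat.card N), ← zpow_mul, ← zpow_mul,
            ← zpow_add]
          push_cast
          rw [huv, zpow_one]
        rw [e, hNpow n hn, one_zpow, mul_one]
        exact zpow_mem h3 u
      -- all 2-elements lie in the normalizer
      have h2elt : ∀ t : G, ∀ k : ℕ, t ^ 2 ^ k = 1 → t ∈ Subgroup.normalizer (P : Set G) := by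
        intro t k ht
        obtain ⟨n, hn, h, hh, rfl⟩ := hFr t
        have htK : n * h ∈ Op 2 G := Subgroup.subset_closure (exists_orderOf_of_pow Nat.prime_two ht)
        have hhK : h ∈ Op 2 G := by
          have e : h = n⁻¹ * (n * h) := by group
          rw [e]
          exact mul_mem (inv_mem (hNK hn)) htK
        have hcomm : Commute n h := by
          have := hKcen h hhK n hn
          have h3 : h * n = n * h := by
            rw [mul_inv_eq_iff_eq_mul] at this
            exact this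
          exact h3.symm
        have h3 : n ^ 2 ^ k * h ^ 2 ^ k = 1 := by
          rw [← hcomm.mul_pow, ht]
        have h4 : n ^ 2 ^ k = 1 := by
          apply hNH _ (pow_mem hn _)
          have h5 : n ^ 2 ^ k = (h ^ 2 ^ k)⁻¹ := mul_eq_one_iff_eq_inv.mp h3
          rw [h5]
          exact inv_mem (pow_mem hh _)
        have hcop2 : (2 ^ k).Coprime (Nat.card N) :=
          Nat.Coprime.pow_left k ((Nat.Prime.coprime_iff_not_dvd Nat.prime_two).mpr h2)
        have h5 := eq_one_of_pow_of_pow h4 (hNpow n hn) hcop2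
        rw [h5, one_mul]
        exact hh
      have hKH : Op 2 G ≤ Subgroup.normalizer (P : Set G) := by
        rw [Subgroup.closure_le]
        intro t ht
        obtain ⟨k, hk⟩ := pow_orderOf_of_mem Nat.prime_two ht
        exact h2elt t k hk
      obtain ⟨n, hn, hn1⟩ := hNne
      exact hn1 (hNH n hn (hKH (hNK hn)))
  obtain ⟨n, hnN, hn1, hnr⟩ := hrealelt
  -- a real character nontrivial on `N`
  have hex : ∃ χ : IrrCharacter G, (∀ g, ((χ : G → ℂ) g).im = 0) ∧
      ∃ k ∈ N, (χ : G → ℂ) k ≠ (χ : G → ℂ) 1 := by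
    by_contra hcon
    push Not at hcon
    have hker : ∀ χ : IrrCharacter G, (∀ g, ((χ : G → ℂ) g).im = 0) →
        ∀ k ∈ (QuotientGroup.mk' N).ker, (χ : G → ℂ) k = (χ : G → ℂ) 1 := by
      intro χ hχ k hk
      exact hcon χ hχ k (by simpa using hk)
    have h1 := isConj_of_map_isConj_of_real (QuotientGroup.mk' N) (QuotientGroup.mk'_surjective N)
      hker hlift (a := n) (b := 1) hnr (by simp) (by
        have h2 : (QuotientGroup.mk' N) n = 1 := by simpa using hnN
        rw [h2, map_one])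
    exact hn1 (isConj_one_right.mp h1.symm)
  obtain ⟨χ, hχr, k, hk, hne⟩ := hex
  -- restriction to `N`
  have hχirr := χ.2
  have hrestr : (fun m : N => (χ : G → ℂ) m) ≠ 0 := by
    intro h0
    have h1 := congrFun h0 1
    have h2 : (χ : G → ℂ) ((1 : N) : G) = 0 := h1
    have h3 : (χ : G → ℂ) 1 ≠ 0 := irr_one_ne_zero hχirr
    exact h3 (by simpa using h2)
  have hcf : IsClassFunction N (fun m : N => (χ : G → ℂ) m) :=
    isClassFunction_of_isCharacter (isCharacter_restrict N (isCharacter_of_isIrrCharacter hχirr))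
  obtain ⟨θ, hθ, hcon⟩ := exists_irr_constituent hcf hrestr
  obtain ⟨g, hfix⟩ := exists_conj_fixed hNn hχirr (hreal χ hχr) hθ hcon hP
  have hθg := eq_one_of_fixed_abelian hNn hab hP hNcop hC (isIrrCharacter_conjOn hNn g hθ) hfix
  have hθ1 : ∀ m : N, θ m = 1 := by
    intro m
    have h1 := congrFun (conjOn_inv_conjOn hNn g θ) m
    rw [← h1, conjOn_apply]
    exact hθg _
  have hcl := clifford_restrict hNn hχirr hθ hcon
  set c := classInner (fun m : N => (χ : G → ℂ) m) θ with hc
  set S := ∑ ψ ∈ orbitFinset hNn θ, ψ with hS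
  have hSconst : ∀ m : N, S m = S 1 := by
    intro m
    simp only [hS, Finset.sum_apply]
    apply Finset.sum_congr rfl
    intro ψ hψ
    obtain ⟨h, rfl⟩ := (mem_orbitFinset hNn θ ψ).mp hψ
    simp only [conjOn_apply]
    rw [hθ1, hθ1]
  apply hne
  have h1 : (χ : G → ℂ) k = c * S ⟨k, hk⟩ := congrFun hcl ⟨k, hk⟩
  have h2 : (χ : G → ℂ) ((1 : N) : G) = c * S 1 := congrFun hcl 1
  rw [h1, hSconst, ← h2]
  simp

end Noncentral

section Main

/-- A normal `p`-subgroup of `p'`-index forces all Sylow subgroups to be normal. -/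
theorem sylow_normal_of {G : Type*} [Group G] [Finite G] {p : ℕ} [hp : Fact p.Prime]
    {R : Subgroup G} (hR : R.Normal) (hRp : IsPGroup p R) (hi : ¬ p ∣ R.index) (Q : Sylow p G) :
    (Q : Subgroup G).Normal := by
  obtain ⟨S, hS⟩ := hRp.exists_le_sylow
  have h1 : R.relIndex (S : Subgroup G) * (S : Subgroup G).index = R.index :=
    Subgroup.relIndex_mul_index hS
  have h2 : R.relIndex (S : Subgroup G) ∣ Nat.card (S : Subgroup G) := Subgroup.relIndex_dvd_card _ _
  obtain ⟨b, hb⟩ := IsPGroup.iff_card.mp S.isPGroup'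
  rw [hb] at h2
  obtain ⟨c, -, hc⟩ := (Nat.dvd_prime_pow hp.out).mp h2
  have h3 : R.relIndex (S : Subgroup G) = 1 := by
    rcases Nat.eq_zero_or_pos c with rfl | hcpos
    · simpa using hc
    · exfalso
      apply hi
      rw [← h1, hc]
      exact Dvd.dvd.mul_right (dvd_pow_self p hcpos.ne') _
  have h4 : (S : Subgroup G) ≤ R := Subgroup.relIndex_eq_one.mp h3
  have h5 : (S : Subgroup G) = R := le_antisymm h4 hS
  have hSn : (S : Subgroup G).Normal := by rw [h5]; exact hR
  have hu : Subsingleton (Sylow p G) := (Sylow.unique_of_normal S hSn).instSubsingleton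
  rw [Subsingleton.elim Q S]
  exact hSn

/-- Main theorem: there is a normal `p`-subgroup which is Sylow in `V`. -/
theorem exists_normal_pGroup_aux {p : ℕ} [hp : Fact p.Prime] : ∀ (n : ℕ) (G : Type u) [Group G]
    [Finite G], Nat.card G = n → RealDegHyp p G → Group.IsSolvable (Op p G) →
    ∀ V : Subgroup G, V.Normal → Op 2 G ≤ V → (∃ a : ℕ, (Op 2 G).relIndex V = p ^ a) →
    ∃ R : Subgroup G, R.Normal ∧ IsPGroup p R ∧ R ≤ V ∧ ¬ p ∣ R.relIndex V := by
  intro n
  induction n using Nat.strong_induction_on with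
  | _ n ih =>
  intro G _ _ hcard hreal hsolv V hV hKV hVp
  classical
  have hp' : p.Prime := hp.out
  by_cases htriv : Nontrivial G
  swap
  · rw [not_nontrivial_iff_subsingleton] at htriv
    refine ⟨⊥, inferInstance, IsPGroup.of_bot, bot_le, ?_⟩
    have h1 : V = ⊥ := Subsingleton.elim _ _
    rw [h1, Subgroup.relIndex_self]
    intro h2
    exact hp'.one_lt.ne' (Nat.dvd_one.mp h2)
  obtain ⟨N, hN⟩ := exists_isMinNormal (G := G)
  haveI hNn : N.Normal := hN.1
  let π := QuotientGroup.mk' N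
  have hπ : Function.Surjective π := QuotientGroup.mk'_surjective N
  have hlt : Nat.card (G ⧸ N) < n := by
    rw [← hcard, ← Subgroup.card_mul_index N]
    have h1 : 1 < Nat.card N := N.one_lt_card_iff_ne_bot.mpr hN.2.1
    have h2 : 0 < N.index := Nat.pos_of_ne_zero Subgroup.index_ne_zero_of_finite
    have h3 : Nat.card (G ⧸ N) = N.index := rfl
    rw [h3]
    nlinarith
  have hVbar : (V.map π).Normal := Subgroup.Normal.map hV π hπ
  have hKbar : (Op 2 G).map π = Op 2 (G ⧸ N) := map_op Nat.prime_two π hπ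
  obtain ⟨Rb, hRbn, hRbp, hRbV, hRbi⟩ := ih _ hlt (G ⧸ N) rfl (realDegHyp_of_surjective π hπ hreal)
    (isSolvable_op_of_surjective hp' π hπ hsolv) (V.map π) hVbar
    (by rw [← hKbar]; exact Subgroup.map_mono hKV) (by
      obtain ⟨a, ha⟩ := hVp
      have h1 := relIndex_map_dvd π hπ (Op 2 G) V
      rw [hKbar, ha] at h1
      obtain ⟨b, -, hb⟩ := (Nat.dvd_prime_pow hp').mp h1
      exact ⟨b, hb⟩)
  let R := Rb.comap π
  haveI hRn : R.Normal := Subgroup.Normal.comap hRbn π
  have hNR : N ≤ R := by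
    intro x hx
    change π x ∈ Rb
    have : π x = 1 := (QuotientGroup.eq_one_iff x).mpr hx
    rw [this]
    exact one_mem _
  have hRi : ¬ p ∣ R.relIndex V := by
    rw [relIndex_comap_of_le V Rb hRbV]
    exact hRbi
  have hWi : ¬ p ∣ (R ⊓ V).relIndex V := by rwa [Subgroup.inf_relIndex_right]
  have hRp0 : ∀ x ∈ R, ∃ k : ℕ, π x ^ p ^ k = 1 := by
    intro x hx
    obtain ⟨k, hk⟩ := hRbp ⟨π x, hx⟩
    exact ⟨k, by simpa [Subtype.ext_iff] using hk⟩
  rcases isPGroup_or_coprime hsolv hN with hNp | hNcop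
  · refine ⟨R ⊓ V, inferInstance, ?_, inf_le_right, hWi⟩
    have hRp : IsPGroup p R := hRbp.comap_of_ker_isPGroup π (by
      rw [QuotientGroup.ker_mk']
      exact hNp)
    exact hRp.to_le inf_le_left
  rcases hN.2.2 (N ⊓ V) inferInstance inf_le_left with hd | hd
  · refine ⟨R ⊓ V, inferInstance, ?_, inf_le_right, hWi⟩
    intro x
    obtain ⟨k, hk⟩ := hRp0 x x.2.1
    refine ⟨k, Subtype.ext ?_⟩
    have h1 : (x : G) ^ p ^ k ∈ N := by
      rw [← QuotientGroup.eq_one_iff]
      have e : (((x : G) ^ p ^ k : G) : G ⧸ N) = π x ^ p ^ k := rfl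
      rw [e, hk]
    have h2 : (x : G) ^ p ^ k ∈ N ⊓ V := ⟨h1, pow_mem x.2.2 _⟩
    rw [hd, Subgroup.mem_bot] at h2
    simpa using h2
  have hNV : N ≤ V := inf_eq_left.mp hd
  have hRV : R ≤ V := by
    intro x hx
    obtain ⟨v, hv, hvx⟩ := hRbV hx
    have h1 : v⁻¹ * x ∈ N := by
      rw [← QuotientGroup.eq_one_iff]
      have e : ((v⁻¹ * x : G) : G ⧸ N) = (π v)⁻¹ * π x := rfl
      rw [e, hvx, inv_mul_cancel]
    have e : x = v * (v⁻¹ * x) := by group
    rw [e]
    exact mul_mem hv (hNV h1)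
  obtain ⟨S⟩ : Nonempty (Sylow p R) := inferInstance
  let P : Subgroup G := (S : Subgroup R).map R.subtype
  have hPR : P ≤ R := Subgroup.map_subtype_le _
  have hPp : IsPGroup p P := S.isPGroup'.map R.subtype
  have hPS : P.subgroupOf R = (S : Subgroup R) :=
    Subgroup.comap_map_eq_self_of_injective R.subtype_injective _
  have hSi : ¬ p ∣ P.relIndex R := by
    have e : P.relIndex R = (S : Subgroup R).index := by
      rw [Subgroup.relIndex, hPS]
    rw [e]
    exact S.not_dvd_index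
  -- `R = N P`
  have hRNP : R ≤ N ⊔ P := by
    have h1 : (N ⊔ P).relIndex R ∣ P.relIndex R := Subgroup.relIndex_dvd_of_le_left R le_sup_right
    have h2 : (N ⊔ P).relIndex R ∣ N.relIndex R := Subgroup.relIndex_dvd_of_le_left R le_sup_left
    have h3 : N.relIndex R = Nat.card Rb := by
      have h4 := relIndex_comap_of_le R (⊥ : Subgroup (G ⧸ N)) bot_le
      have h5 : (⊥ : Subgroup (G ⧸ N)).comap (QuotientGroup.mk' N) = N := by
        rw [MonoidHom.comap_bot, QuotientGroup.ker_mk']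
      rw [h5] at h4
      rw [h4, Subgroup.relIndex_bot_left]
      have h6 : R.map (QuotientGroup.mk' N) = Rb := Subgroup.map_comap_eq_self_of_surjective hπ Rb
      rw [h6]
    obtain ⟨b, hb⟩ := IsPGroup.iff_card.mp hRbp
    rw [h3, hb] at h2
    obtain ⟨c, -, hc⟩ := (Nat.dvd_prime_pow hp').mp h2
    have h7 : (N ⊔ P).relIndex R = 1 := by
      rcases Nat.eq_zero_or_pos c with rfl | hcpos
      · simpa using hc
      · exfalso
        apply hSi
        rw [hc] at h1
        exact (dvd_pow_self p hcpos.ne').trans h1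
    exact Subgroup.relIndex_eq_one.mp h7
  have hRdec : ∀ r ∈ R, ∃ n ∈ N, ∃ x ∈ P, r = n * x := by
    intro r hr
    have h1 : r ∈ ((N ⊔ P : Subgroup G) : Set G) := hRNP hr
    rw [Subgroup.normal_mul] at h1
    obtain ⟨n, hn, x, hx, rfl⟩ := Set.mem_mul.mp h1
    exact ⟨n, hn, x, hx, rfl⟩
  have hFr : ∀ g : G, ∃ n ∈ N, ∃ h ∈ Subgroup.normalizer (P : Set G), g = n * h := by
    intro g
    have h1 : Subgroup.normalizer (P : Set G) ⊔ R = ⊤ := Sylow.normalizer_sup_eq_top S
    have h2 : g ∈ ((R ⊔ Subgroup.normalizer (P : Set G) : Subgroup G) : Set G) := by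
      rw [sup_comm, h1]
      trivial
    rw [Subgroup.normal_mul] at h2
    obtain ⟨r, hr, h, hh, rfl⟩ := Set.mem_mul.mp h2
    obtain ⟨n, hn, x, hx, rfl⟩ := hRdec r hr
    exact ⟨n, hn, x * h, mul_mem (Subgroup.le_normalizer hx) hh, by group⟩
  by_cases hnc : ∃ x ∈ P, ∃ n ∈ N, x * n * x⁻¹ ≠ n
  · exact (false_of_not_centralizes hreal hsolv hV hKV hVp hN hNcop hNV hPp hFr hnc).elim
  push Not at hnc
  -- `P` is normal in `R`
  have hSn : (S : Subgroup R).Normal := by
    constructor
    intro y hy r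
    have hy' : ((y : R) : G) ∈ P := Subgroup.mem_map.mpr ⟨y, hy, rfl⟩
    have hrP : ((r * y * r⁻¹ : R) : G) ∈ P := by
      obtain ⟨n, hn, x, hx, hr⟩ := hRdec r r.2
      have hcomm : ∀ z ∈ P, n * z * n⁻¹ = z := by
        intro z hz
        have h2 := hnc z hz n hn
        have h3 : z * n = n * z := by
          rw [mul_inv_eq_iff_eq_mul] at h2
          exact h2
        rw [mul_inv_eq_iff_eq_mul, h3]
      have hxy' : x * (y : G) * x⁻¹ ∈ P := mul_mem (mul_mem hx hy') (inv_mem hx)
      have e : ((r * y * r⁻¹ : R) : G) = n * (x * (y : G) * x⁻¹) * n⁻¹ := by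
        push_cast
        rw [hr]
        group
      rw [e, hcomm _ hxy']
      exact hxy'
    obtain ⟨z, hz, hzz⟩ := Subgroup.mem_map.mp hrP
    have : z = r * y * r⁻¹ := Subtype.ext hzz
    rw [← this]
    exact hz
  haveI : (S : Subgroup R).Characteristic := Sylow.characteristic_of_normal S hSn
  refine ⟨P, inferInstance, hPp, hPR.trans hRV, ?_⟩
  rw [← Subgroup.relIndex_mul_relIndex P R V hPR hRV]
  intro hd
  rcases (Nat.Prime.dvd_mul hp').mp hd with h | h
  · exact hSi h
  · exact hRi h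

/-- Main theorem: there is a normal `p`-subgroup which is Sylow in `V`. -/
theorem exists_normal_pGroup {p : ℕ} [Fact p.Prime] {G : Type u} [Group G]
    [Finite G] (hreal : RealDegHyp p G) (hsolv : Group.IsSolvable (Op p G))
    (V : Subgroup G) (hV : V.Normal) (hKV : Op 2 G ≤ V) (hVp : ∃ a : ℕ, (Op 2 G).relIndex V = p ^ a) :
    ∃ R : Subgroup G, R.Normal ∧ IsPGroup p R ∧ R ≤ V ∧ ¬ p ∣ R.relIndex V :=
  exists_normal_pGroup_aux _ G rfl hreal hsolv V hV hKV hVp

/-- Sylow subgroups of such a `V` are normal in `V`. -/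
theorem sylow_normal {p : ℕ} [Fact p.Prime] {G : Type u} [Group G]
    [Finite G] (hreal : RealDegHyp p G) (hsolv : Group.IsSolvable (Op p G))
    (V : Subgroup G) (hV : V.Normal) (hKV : Op 2 G ≤ V) (hVp : ∃ a : ℕ, (Op 2 G).relIndex V = p ^ a)
    (Q : Sylow p V) : (Q : Subgroup V).Normal := by
  obtain ⟨R, hRn, hRp, hRV, hRi⟩ := exists_normal_pGroup hreal hsolv V hV hKV hVp
  refine sylow_normal_of (R := R.subgroupOf V) (Subgroup.Normal.subgroupOf hRn V) ?_ hRi Q
  exact hRp.comap_of_injective V.subtype V.subtype_injective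

end Main

end Cfsg.Agent.Lib.RealDeg.NormalSylow
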